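import Mathlib
import Cfsg.Prelude.Def_LieTypeChar
import Cfsg.Agent.Lib.helper14.SQD.Defs
import Cfsg.Agent.Lib.helper14.SQD.DefsU

/-!
Project SQD = S4625 (designer helper14): definitions for the orthogonal blocks OP (`PΩ⁺`) and OM (`PΩ⁻`), by helper24.
-/

set_option autoImplicit false

namespace Cfsg.Agent.Lib.helper14.SQD

open Matrix Cfsg

/-- the inclusion `Ω(Q) → GL`; it is injective and its range is the derived subgroup of the isometry group -/
def omegaToGL {ι : Type} [Fintype ι] [DecidableEq ι] (F : Type*) [Field F] (Q : (ι → F) → F) :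
    ↥(Omega F Q) →* GL ι F :=
  (isometryGroup F Q).subtype.comp (Omega F Q).subtype

theorem omegaToGL_apply {ι : Type} [Fintype ι] [DecidableEq ι] (F : Type*) [Field F] (Q : (ι → F) → F)
    (x : ↥(Omega F Q)) : omegaToGL F Q x = ((x : ↥(isometryGroup F Q)) : GL ι F) := rfl

/-- the binary quadratic form `z₀ ^ 2 + a * z₀ * z₁ + b * z₁ ^ 2` of `quadFormMinus` -/
def omQ0 {F : Type*} [Field F] (a b : F) (z : Fin 2 → F) : F :=
  z 0 ^ 2 + a * z 0 * z 1 + b * z 1 ^ 2

/-- the Gram matrix `[[0, a], [a, 0]]` of the polar form of `omQ0 a b` (characteristic 2) -/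
def omG0 {F : Type*} [Field F] (a : F) : Matrix (Fin 2) (Fin 2) F := !![0, a; a, 0]

/-- a (non-symmetric) matrix `N` with `z ⬝ᵥ N *ᵥ z = omQ0 a b z` -/
def omN {F : Type*} [Field F] (a b : F) : Matrix (Fin 2) (Fin 2) F := !![1, a; 0, b]

/-- the orthogonal cocycle condition: the quadratic form of `C` is `y ↦ omQ0 a b (R *ᵥ y)`
(in characteristic 2: `C + Cᵀ = Rᵀ * omG0 a * R` and `C i i = omQ0 a b (column i of R)`) -/
def omC {k : ℕ} {F : Type*} [Field F] (a b : F) (R : Matrix (Fin 2) (Fin k) F)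
    (C : Matrix (Fin k) (Fin k) F) : Prop :=
  ∀ y : Fin k → F, y ⬝ᵥ (C *ᵥ y) = omQ0 a b (R *ᵥ y)

/-- the Sylow 2-subgroup of `Ω⁻` in the coordinates of `quadFormMinus k F a b` -/
def omGrp {k : ℕ} {F : Type*} [Field F] (a b : F) : Subgroup (GL ((Fin k ⊕ Fin k) ⊕ Fin 2) F) :=
  hsGrp (RingHom.id F) (omG0 a) (omC (k := k) a b) ⊔ (levGrp (RingHom.id F)).map (embGL 2)

end Cfsg.Agent.Lib.helper14.SQD
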